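import Groth.Agent.Lib.BorelPre21.Image
import Groth.Agent.Lib.AttrBorel21.BorelGen
import Groth.Agent.Lib.AttrBorel21.CartanGen
import Groth.Agent.Lib.CartanNhd21.Field
import Groth.Agent.S3036

/-!
# Borel subgroups under homomorphisms with central kernel
-/

set_option autoImplicit false
set_option linter.style.haveILetI false
set_option linter.unusedSectionVars false
set_option backward.isDefEq.respectTransparency.types false
set_option synthInstance.maxHeartbeats 200000

universe u

open CategoryTheory Limits MonoidalCategory CartesianMonoidalCategory MonObj AlgebraicGeometry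

noncomputable section

namespace Groth.Agent.BorelPre21

/-- A central extension of a solvable group is solvable. -/
theorem isSolvableGrp_of_central {S : Scheme.{u}} {B B' : Over S} [GrpObj B] [GrpObj B'] (v : B ⟶ B') [IsMonHom v]
    (hsol : Red.IsSolvableGrp B')
    (hc : ∀ (X : Over S) (z y : X ⟶ B), z ≫ v = 1 → z * y = y * z) : Red.IsSolvableGrp B := by
  obtain ⟨n, hn⟩ := hsol
  refine ⟨n + 1, fun X => ?_⟩
  let F : (X ⟶ B) →* (X ⟶ B') := MonoidHom.mk' (fun x => x ≫ v) (fun x y => MonObj.mul_comp x y v)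
  have h : ∀ z ∈ derivedSeries (X ⟶ B) n, z ≫ v = 1 := fun z hz => by
    have h1 : F z ∈ derivedSeries (X ⟶ B') n := map_derivedSeries_le_derivedSeries F n ⟨z, hz, rfl⟩
    rw [hn] at h1
    exact h1
  rw [derivedSeries_succ]
  exact le_bot_iff.1 (Subgroup.commutator_le.2 fun a ha b _ => Subgroup.mem_bot.2
    (commutatorElement_eq_one_iff_mul_comm.2 (hc X a b (h a ha))))

theorem mono_of_ci {S : Scheme.{u}} {X Y : Over S} (f : X ⟶ Y) (h : IsClosedImmersion f.left) : Mono f := by
  haveI := h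
  exact Over.mono_of_mono_left f

theorem forget_square {S : Scheme.{u}} {P X Y Z : Over S} {a : P ⟶ X} {c : P ⟶ Y} {f : X ⟶ Z} {g : Y ⟶ Z}
    (h : IsPullback a c f g) : IsPullback a.left c.left f.left g.left := h.map (Over.forget S)

variable {k : Type u} [Field k] [IsAlgClosed k]

/-- A Borel subgroup contains a Cartan subgroup. -/
theorem exists_cartan_le {G B : Over (Spec (CommRingCat.of k))} [GrpObj G] [GrpObj B] [Smooth G.hom]
    [QuasiCompact G.hom] [ConnectedSpace ↥G.left] {b : B ⟶ G} (hB : Red.IsBorelOver k b) :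
    ∃ (C : Over (Spec (CommRingCat.of k))) (_ : GrpObj C) (c : C ⟶ B), SGA3x.IsCartanOver k (c ≫ b) := by
  obtain ⟨hbm, hbc, hBs, hBn, -, -⟩ := id hB
  haveI := hbm
  haveI := hbc
  haveI := hBs
  haveI := hBn
  haveI : Mono η[B] := SplitMono.mono ⟨toUnit B, toUnit_unique _ _⟩
  obtain ⟨T, _, t, -, hT, -⟩ := AttrBorel21.exists_maxTorus_ge_gen (G := B) Semiab15.isTorus_unit η[B]
  have hTG := AttrBorel21.isMaxTorus_comp_borel_disc hB hT
  haveI := hTG.1
  haveI : IsSeparated G.hom := AbRigid.isSeparated_of_grpObj G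
  obtain ⟨C, _, c, hcm, hcc, hciff⟩ := GrpTrans20.exists_centralizer (t ≫ b)
  haveI := hcm
  haveI := hcc
  have hC : Red.IsCentralizerOf (t ≫ b) c := ⟨inferInstance, Over.mono_of_mono_left c, hciff⟩
  obtain ⟨fC, hfC⟩ := AttrBorel21.exists_lift_centralizer_borel_gen hB t hTG hC
  refine ⟨C, inferInstance, fC, ?_⟩
  rw [hfC]
  exact ⟨hC.1, hC.2.1, T, inferInstance, t ≫ b, AttrBorel21.isMaximalTorus_of_isMaxTorus hTG, hC⟩

variable {G G' B B' : Over (Spec (CommRingCat.of k))} [GrpObj G] [GrpObj G'] [GrpObj B] [GrpObj B']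
  [Smooth G.hom] [QuasiCompact G.hom] [ConnectedSpace ↥G.left] [Smooth G'.hom] [QuasiCompact G'.hom]
  (u : G ⟶ G') [IsMonHom u] [Flat u.left] [Surjective u.left] (hker : CentMT21.CentralKer u)

include hker

set_option maxHeartbeats 1000000 in
/-- The preimage of a Borel subgroup is a Borel subgroup. -/
theorem borel_of_preimage (b' : B' ⟶ G') (hB' : Red.IsBorelOver k b') (b : B ⟶ G) [IsMonHom b] (v : B ⟶ B')
    [IsMonHom v] (hpb : IsPullback b v u b') : Red.IsBorelOver k b := by
  haveI : IsSeparated G.hom := AbRigid.isSeparated_of_grpObj G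
  haveI : IsSeparated G'.hom := AbRigid.isSeparated_of_grpObj G'
  haveI : ConnectedSpace G'.left := u.left.surjective.connectedSpace u.left.continuous
  obtain ⟨hb'm, hb'c, hB's, hB'n, hB'sol, hmax⟩ := id hB'
  haveI := hb'm
  haveI := hb'c
  haveI := hB's
  haveI := hB'n
  haveI : Mono b' := mono_of_ci b' inferInstance
  haveI : QuasiCompact B'.hom := by rw [← Over.w b']; infer_instance
  obtain ⟨C', _, c', hc'⟩ := exists_cartan_le hB'
  obtain ⟨hBs, ⟨C, _, c, hC⟩, hBn⟩ := CentMT21.field_preimage u hker b' c' hc' v b hpb.flip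
  haveI := hBs
  haveI := hBn hB'n
  have hsq := forget_square hpb
  haveI : IsClosedImmersion b.left := MorphismProperty.of_isPullback hsq.flip ‹IsClosedImmersion b'.left›
  haveI : Flat v.left := MorphismProperty.of_isPullback hsq ‹Flat u.left›
  haveI : Surjective v.left := MorphismProperty.of_isPullback hsq ‹Surjective u.left›
  haveI : QuasiCompact u.left := CentMT21.quasiCompact_left u
  haveI : QuasiCompact v.left := MorphismProperty.of_isPullback hsq ‹QuasiCompact u.left›
  haveI : Mono b := mono_of_ci b inferInstance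
  refine ⟨inferInstance, inferInstance, inferInstance, inferInstance,
    isSolvableGrp_of_central v hB'sol fun X z y hz => (cancel_mono b).1 (by
      have h := hker X (z ≫ b) (by rw [Category.assoc, hpb.w, ← Category.assoc, hz, MonObj.one_comp]) X (𝟙 X) (y ≫ b)
      rw [Category.id_comp] at h
      rw [MonObj.mul_comp, MonObj.mul_comp, h]), ?_⟩
  intro B₂ _ i₂ hi₂m f hi₂c hB₂s hB₂n hB₂sol hf
  haveI := hi₂m
  haveI := hi₂c
  haveI := hB₂s
  haveI := hB₂n
  haveI : Mono i₂ := mono_of_ci i₂ inferInstance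
  haveI : LocallyOfFiniteType G.hom := inferInstance
  have huniv : ∀ s : ↥(Spec (CommRingCat.of k)), _root_.IsConnected (B₂.hom.base ⁻¹' {s}) := fun s => by
    rw [show B₂.hom.base ⁻¹' {s} = Set.univ from Set.eq_univ_of_forall fun x =>
      Set.mem_singleton_iff.2 (Subsingleton.elim _ _)]
    exact isConnected_univ
  obtain ⟨Q, _, q, m, hqm, hmm, hmono, hqs, hqf, hqc, hQs, hQc, hQpb⟩ :=
    exists_image_pullback u hker i₂ (CentMT21.connectedSpace_geomFibre B₂ huniv) fun s =>
      ⟨Red.bc (Red.geomPt s) C, inferInstance, (Over.pullback (Red.geomPt s)).map (c ≫ f), by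
        rw [← Functor.map_comp, Category.assoc, hf]
        exact CartanNhd21.cartanOver_bc hC (Red.geomPt s)⟩
  haveI := hqm
  haveI := hmm
  haveI := hmono
  haveI := hqs
  haveI := hqf
  haveI := hqc
  haveI := hQs
  haveI := hQc
  haveI : IsSeparated Q.hom := AbRigid.isSeparated_of_grpObj Q
  haveI : Mono m.left := Over.mono_left_of_mono m
  haveI : QuasiCompact m.left := CentMT21.quasiCompact_left m
  haveI : IsClosedImmersion m.left := Groth.Agent.S3036.result k Q G' m
  obtain ⟨hQn, hQsol⟩ := AttrBorel21.props_image q hB₂sol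
  obtain ⟨X, π, a, hπf, hπs, hπq, ha⟩ := FppfDesc19.exists_cover_lift v (𝟙 B')
  haveI := hπf
  haveI := hπs
  haveI := hπq
  rw [Category.comp_id] at ha
  obtain ⟨l, hl⟩ := FppfDesc19.exists_lift_of_cover π m b' (a ≫ f ≫ q) (by
    rw [Category.assoc, Category.assoc, ← hQpb.w, reassoc_of% hf, hpb.w, reassoc_of% ha])
  haveI : IsIso l := hmax Q m l inferInstance inferInstance hQn hQsol hl
  let g : B₂ ⟶ B := hpb.lift i₂ (q ≫ inv l) (by
    rw [hQpb.w, Category.assoc, show inv l ≫ b' = m by rw [IsIso.inv_comp_eq, hl]])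
  have hg : g ≫ b = i₂ := hpb.lift_fst _ _ _
  exact ⟨g, (cancel_mono b).1 (by rw [Category.assoc, hg, hf, Category.id_comp]),
    (cancel_mono i₂).1 (by rw [Category.assoc, hf, hg, Category.id_comp])⟩

set_option maxHeartbeats 1000000 in
/-- A subgroup whose preimage is a Borel subgroup is a Borel subgroup. -/
theorem borel_of_image (b : B ⟶ G) (hB : Red.IsBorelOver k b) (b' : B' ⟶ G') [IsMonHom b'] [Mono b']
    [Smooth B'.hom] [QuasiCompact B'.hom] (q : B ⟶ B') [IsMonHom q] [Surjective q.left]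
    (hpb : IsPullback b q u b') : Red.IsBorelOver k b' := by
  haveI : IsSeparated G.hom := AbRigid.isSeparated_of_grpObj G
  haveI : IsSeparated G'.hom := AbRigid.isSeparated_of_grpObj G'
  haveI : ConnectedSpace G'.left := u.left.surjective.connectedSpace u.left.continuous
  obtain ⟨hbm, hbc, hBs, hBn, hBsol, hmax⟩ := id hB
  haveI := hbm
  haveI := hbc
  haveI := hBs
  haveI := hBn
  haveI : Mono b := mono_of_ci b inferInstance
  haveI : Mono b'.left := Over.mono_left_of_mono b'
  haveI : QuasiCompact b'.left := CentMT21.quasiCompact_left b'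
  haveI : IsClosedImmersion b'.left := Groth.Agent.S3036.result k B' G' b'
  obtain ⟨hB'n, hB'sol⟩ := AttrBorel21.props_image q hBsol
  refine ⟨inferInstance, inferInstance, inferInstance, hB'n, hB'sol, ?_⟩
  intro B₂ _ i₂ hi₂m f hi₂c hB₂s hB₂n hB₂sol hf
  haveI := hi₂m
  haveI := hi₂c
  haveI := hB₂s
  haveI := hB₂n
  haveI : Mono i₂ := mono_of_ci i₂ inferInstance
  haveI : QuasiCompact B₂.hom := by rw [← Over.w i₂]; infer_instance
  have hconn' : ∀ s : ↥(Spec (CommRingCat.of k)), _root_.IsConnected (G'.hom.base ⁻¹' {s}) := fun s => by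
    rw [show G'.hom.base ⁻¹' {s} = Set.univ from Set.eq_univ_of_forall fun x =>
      Set.mem_singleton_iff.2 (Subsingleton.elim _ _)]
    exact isConnected_univ
  obtain ⟨C, _, fC, hC⟩ := exists_cartan_le hB
  obtain ⟨-, -, T, _, i, hT, hCc⟩ := id hC
  haveI := hT.1
  obtain ⟨T', _, i', vT, hT', -, hvT, -, -⟩ :=
    ImTor21.exists_image_maxTorus u (fun s => CentMT21.surjective_map_left u _) i hT
  obtain ⟨C', _, c', hC', -, -, -⟩ := CartanRel21.exists_centralizer_isCartan hT'
  haveI := hT'.1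
  obtain ⟨vC, hvm, hvs, hvf, hsq⟩ := CentMT21.exists_cartan_pullback u hker hconn' hT hT' hvT hCc hC'
  haveI := hvs
  haveI := hvf
  haveI := hCc.1
  haveI := hC'.1
  haveI : QuasiCompact C.hom := by
    obtain ⟨-, hcl, -⟩ := AttrBorel21.centralizer_props_gen hT.2.2.1 hCc
    haveI := hcl
    rw [← Over.w (fC ≫ b)]
    infer_instance
  haveI : LocallyOfFiniteType C'.hom := by
    obtain ⟨-, hcl, -⟩ := AttrBorel21.centralizer_props_gen hT'.2.2.1 hC'
    haveI := hcl
    rw [← Over.w c']
    infer_instance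
  haveI : IsSeparated C'.hom := AbRigid.isSeparated_of_grpObj C'
  haveI : QuasiCompact vC.left := CentMT21.quasiCompact_left vC
  obtain ⟨X, π, a, hπf, hπs, hπq, ha⟩ := FppfDesc19.exists_cover_lift vC (𝟙 C')
  haveI := hπf
  haveI := hπs
  haveI := hπq
  rw [Category.comp_id] at ha
  obtain ⟨c'', hc''⟩ := FppfDesc19.exists_lift_of_cover π b' c' (a ≫ fC ≫ q) (by
    have hw : fC ≫ b ≫ u = vC ≫ c' := by rw [← Category.assoc]; exact hsq.w
    rw [Category.assoc, Category.assoc, ← hpb.w, hw, reassoc_of% ha])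
  obtain ⟨_, hfst, hsnd⟩ := CentMT21.exists_grp_pullback i₂ u
  haveI := hfst
  haveI := hsnd
  let P := Limits.pullback i₂ u
  let p₁ : P ⟶ B₂ := Limits.pullback.fst i₂ u
  let p₂ : P ⟶ G := Limits.pullback.snd i₂ u
  obtain ⟨hPs, -, hPn⟩ := CentMT21.field_preimage u hker i₂ (c'' ≫ f) (by
    rw [Category.assoc, hf, hc'']
    exact ⟨hC'.1, hC'.2.1, T', inferInstance, i', hT', hC'⟩) p₁ p₂ (IsPullback.of_hasPullback i₂ u)
  have hP2 := forget_square (IsPullback.of_hasPullback i₂ u)
  haveI : IsClosedImmersion p₂.left := MorphismProperty.of_isPullback hP2 ‹IsClosedImmersion i₂.left›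
  haveI : Mono p₂ := mono_of_ci p₂ inferInstance
  haveI : Flat p₁.left := MorphismProperty.of_isPullback hP2.flip ‹Flat u.left›
  haveI : Surjective p₁.left := MorphismProperty.of_isPullback hP2.flip ‹Surjective u.left›
  haveI : QuasiCompact u.left := CentMT21.quasiCompact_left u
  haveI : QuasiCompact p₁.left := MorphismProperty.of_isPullback hP2.flip ‹QuasiCompact u.left›
  let f₀ : B ⟶ P := Limits.pullback.lift (q ≫ f) b (by rw [Category.assoc, hf, hpb.w])
  haveI : IsIso f₀ := hmax P p₂ f₀ inferInstance hPs (hPn hB₂n)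
    (isSolvableGrp_of_central p₁ hB₂sol fun X z y hz => (cancel_mono p₂).1 (by
      have h := hker X (z ≫ p₂) (by
        rw [Category.assoc, ← Limits.pullback.condition, ← Category.assoc, hz, MonObj.one_comp]) X (𝟙 X) (y ≫ p₂)
      rw [Category.id_comp] at h
      rw [MonObj.mul_comp, MonObj.mul_comp, h])) (Limits.pullback.lift_snd _ _ _)
  obtain ⟨X₂, π₂, a₂, h₂f, h₂s, h₂q, ha₂⟩ := FppfDesc19.exists_cover_lift p₁ (𝟙 B₂)
  haveI := h₂f
  haveI := h₂s
  haveI := h₂q
  rw [Category.comp_id] at ha₂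
  obtain ⟨l, hl⟩ := FppfDesc19.exists_lift_of_cover π₂ b' i₂ (a₂ ≫ inv f₀ ≫ q) (by
    have h0 : inv f₀ ≫ b = p₂ := by rw [IsIso.inv_comp_eq]; exact (Limits.pullback.lift_snd _ _ _).symm
    rw [Category.assoc, Category.assoc, ← hpb.w, reassoc_of% h0, ← Limits.pullback.condition, reassoc_of% ha₂])
  exact ⟨l, (cancel_mono b').1 (by rw [Category.assoc, hl, hf, Category.id_comp]),
    (cancel_mono i₂).1 (by rw [Category.assoc, hf, hl, Category.id_comp])⟩

end Groth.Agent.BorelPre21
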