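import Groth.Agent.Lib.SubCartan21.Main
import Groth.Agent.Lib.CentMT21.Preimage
import Groth.Agent.Lib.CartanT21.Main
import Groth.Agent.Lib.FppfDesc19.Basic
import Groth.Agent.S5417
import Groth.Agent.S5371

/-!
# Images of subgroups containing Cartan subgroups under homomorphisms with central kernel
-/

set_option autoImplicit false
set_option linter.style.haveILetI false
set_option linter.unusedSectionVars false
set_option backward.isDefEq.respectTransparency.types false

universe u

open CategoryTheory Limits MonoidalCategory CartesianMonoidalCategory MonObj AlgebraicGeometry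

noncomputable section

namespace Groth.Agent.BorelPre21

variable {S : Scheme.{u}} {G G' B : Over S} [GrpObj G] [GrpObj G'] [GrpObj B]

set_option maxHeartbeats 1000000 in
/-- The image of such a subgroup is a subgroup with the given one as preimage. -/
theorem exists_image_pullback [Smooth G.hom] [QuasiCompact G.hom] [QuasiSeparated G.hom] [Smooth G'.hom]
    [QuasiSeparated G'.hom] [Smooth B.hom] (u : G ⟶ G') [IsMonHom u] [Flat u.left] [Surjective u.left]
    (hker : CentMT21.CentralKer u) (b : B ⟶ G) [IsMonHom b] [Mono b]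
    (hBconn : ∀ s : S, ConnectedSpace ↥(Red.geomFibre s B).left)
    (hBC : ∀ s : S, ∃ (C' : Over (Spec (CommRingCat.of (AlgebraicClosure (S.residueField s))))) (_ : GrpObj C')
      (c' : C' ⟶ Red.geomFibre s B), SGA3x.IsCartanOver _ (c' ≫ (Over.pullback (Red.geomPt s)).map b)) :
    ∃ (Q : Over S) (_ : GrpObj Q) (q : B ⟶ Q) (m : Q ⟶ G'), IsMonHom q ∧ IsMonHom m ∧ Mono m ∧ Surjective q.left ∧
      Flat q.left ∧ QuasiCompact q.left ∧ Smooth Q.hom ∧ QuasiCompact Q.hom ∧ IsPullback b q u m := by
  haveI : Mono η[G'] := SplitMono.mono ⟨toUnit G', toUnit_unique _ _⟩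
  obtain ⟨_, -, hsnd⟩ := CentMT21.exists_grp_pullback η[G'] u
  haveI := hsnd
  let K := Limits.pullback η[G'] u
  let k : K ⟶ G := Limits.pullback.snd η[G'] u
  have hku : k ≫ u = 1 := by
    rw [← Limits.pullback.condition, Hom.one_def]
    congr 1
    exact toUnit_unique _ _
  obtain ⟨l, hl⟩ := SubCartan21.exists_lift_central b hBconn hBC k fun X x g => hker K k hku X x g
  haveI : IsMonHom l := MTExt21.isMonHom_of_comp' b l (by rw [hl]; infer_instance)
  haveI : Mono k := inferInstanceAs (Mono (Limits.pullback.snd η[G'] u))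
  have hk : ∀ {X : Over S} (g : X ⟶ G), g ≫ u = 1 → ∃ w : X ⟶ K, w ≫ k = g := fun {X} g hg =>
    ⟨Limits.pullback.lift (toUnit X) g (by rw [hg, Hom.one_def]), Limits.pullback.lift_snd _ _ _⟩
  haveI : Mono l := by
    haveI : Mono (l ≫ b) := by rw [hl]; infer_instance
    exact mono_of_mono l b
  have hK : AlgGrp.IsKernel l (b ≫ u) := by
    have w : l ≫ b ≫ u = toUnit K ≫ η[G'] := by rw [← Category.assoc, hl, hku, Hom.one_def]
    have hz : ∀ c : PullbackCone (b ≫ u) η[G'], (c.fst ≫ b) ≫ u = 1 := fun c => by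
      rw [Category.assoc, c.condition, Hom.one_def, toUnit_unique c.snd (toUnit _)]
    refine ⟨⟨w⟩, ⟨PullbackCone.IsLimit.mk w (fun c => (hk (c.fst ≫ b) (hz c)).choose)
      (fun c => ?_) (fun c => toUnit_unique _ _) fun c g hg _ => ?_⟩⟩
    · rw [← cancel_mono b, Category.assoc, hl]
      exact (hk (c.fst ≫ b) (hz c)).choose_spec
    · rw [← cancel_mono l, hg, ← cancel_mono b, Category.assoc, hl]
      exact ((hk (c.fst ≫ b) (hz c)).choose_spec).symm
  haveI : Flat K.hom := by
    haveI : Flat (Limits.pullback.fst η[G'] u).left :=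
      MorphismProperty.of_isPullback ((IsPullback.of_hasPullback η[G'] u).map (Over.forget S)).flip ‹Flat u.left›
    rw [← Over.w (Limits.pullback.fst η[G'] u)]
    show Flat (_ ≫ 𝟙 S)
    infer_instance
  obtain ⟨Q, _, q, hqm, hq, hQl, m, hmm, hmono, hqm'⟩ :=
    Groth.Agent.S5417.result S B G' (Or.inl inferInstance) (b ≫ u) K l hK
  haveI := hqm
  haveI := hmm
  haveI := hmono
  obtain ⟨hqs, hqf, hql, hqp⟩ := id hq
  haveI := hqs
  haveI := hqf
  haveI := hql
  have h5 := (Groth.Agent.S5371.result S B K Q l q ⟨B.left, q.left, 𝟙 _, Category.id_comp _, hqs, hqf, fun V hV =>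
      CartanT21.exists_compact_image' q.left V hV.isCompact⟩ hqp.flip).2.1 hqf hql
  haveI : Smooth Q.hom := h5.2.2.2.1 ‹Smooth B.hom›
  have hBf : ∀ s : S, _root_.IsConnected (B.hom.base ⁻¹' {s}) := fun s =>
    CentMT21.isConnected_fibre_of_geom s (hBconn s)
  haveI := (Groth.Agent.S3025.result S B hBf).2
  haveI : QuasiCompact Q.hom := h5.2.2.1 inferInstance inferInstance
  haveI : Mono m.left := Over.mono_left_of_mono m
  haveI : QuasiSeparated Q.hom := by rw [← Over.w m]; infer_instance
  haveI : QuasiCompact q.left := CentMT21.quasiCompact_left q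
  refine ⟨Q, inferInstance, q, m, hqm, hmm, hmono, hqs, hqf, inferInstance, inferInstance, inferInstance, ?_⟩
  haveI : Mono b.left := Over.mono_left_of_mono b
  have hex : ∀ {X : Over S} (g : X ⟶ G) (y : X ⟶ Q), g ≫ u = y ≫ m → ∃ f : X ⟶ B, f ≫ b = g := by
    intro X g y hgy
    obtain ⟨X', π, a, hπf, hπs, hπq, ha⟩ := FppfDesc19.exists_cover_lift q y
    haveI := hπf
    haveI := hπs
    haveI := hπq
    obtain ⟨w, hw⟩ := hk ((π ≫ g) * (a ≫ b)⁻¹) (by
      rw [MonObj.mul_comp, GrpObj.inv_comp, Category.assoc, Category.assoc, hgy, ← hqm', reassoc_of% ha,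
        mul_inv_cancel])
    exact FppfDesc19.exists_lift_of_cover π b g ((w ≫ l) * a) (by
      rw [MonObj.mul_comp, Category.assoc, hl, hw, inv_mul_cancel_right])
  refine ⟨⟨hqm'.symm⟩, ⟨PullbackCone.IsLimit.mk hqm'.symm (fun c => (hex c.fst c.snd c.condition).choose)
    (fun c => (hex c.fst c.snd c.condition).choose_spec) (fun c => ?_) fun c g hg _ => ?_⟩⟩
  · rw [← cancel_mono m, Category.assoc, hqm', ← Category.assoc, (hex c.fst c.snd c.condition).choose_spec,
      c.condition]
  · rw [← cancel_mono b, hg, (hex c.fst c.snd c.condition).choose_spec]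

end Groth.Agent.BorelPre21
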