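import Groth.Agent.Lib.BorelPre21.Field

/-!
# Borel subgroups of group schemes under homomorphisms with central kernel
-/

set_option autoImplicit false
set_option linter.style.haveILetI false
set_option linter.unusedSectionVars false
set_option backward.isDefEq.respectTransparency.types false

universe u

open CategoryTheory Limits MonoidalCategory CartesianMonoidalCategory MonObj AlgebraicGeometry

noncomputable section

namespace Groth.Agent.BorelPre21

variable {S : Scheme.{u}} {G G' B B' : Over S} [GrpObj G] [GrpObj G'] [GrpObj B] [GrpObj B']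
  [Smooth G.hom] [QuasiCompact G.hom] [QuasiSeparated G.hom] [Smooth G'.hom] [QuasiCompact G'.hom]
  [QuasiSeparated G'.hom] (hconn : ∀ s : S, _root_.IsConnected (G.hom.base ⁻¹' {s}))
  (u : G ⟶ G') [IsMonHom u] [Flat u.left] [Surjective u.left] (hker : CentMT21.CentralKer u)

include hconn hker

/-- Preimages of Borel subgroups. -/
theorem borel_pullback (b' : B' ⟶ G') (hb'm : IsMonHom b') (hb' : Mono b') [Smooth B'.hom] [QuasiCompact B'.hom]
    (hB' : ∀ s : S, Red.IsBorelOver (AlgebraicClosure (S.residueField s)) ((Over.pullback (Red.geomPt s)).map b'))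
    (b : B ⟶ G) [IsMonHom b] (v : B ⟶ B') [IsMonHom v] (hpb : IsPullback b v u b') :
    Mono b ∧ Smooth B.hom ∧ QuasiCompact B.hom ∧
      ∀ s : S, Red.IsBorelOver (AlgebraicClosure (S.residueField s)) ((Over.pullback (Red.geomPt s)).map b) := by
  haveI := hb'm
  haveI := hb'
  have hsq := forget_square hpb
  haveI : Flat v.left := MorphismProperty.of_isPullback hsq ‹Flat u.left›
  haveI : QuasiCompact u.left := CentMT21.quasiCompact_left u
  haveI : QuasiCompact v.left := MorphismProperty.of_isPullback hsq ‹QuasiCompact u.left›
  haveI : LocallyOfFinitePresentation u.left := by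
    haveI : LocallyOfFinitePresentation (u.left ≫ G'.hom) := by rw [Over.w u]; infer_instance
    exact SchBasic.locallyOfFinitePresentation_of_comp u.left G'.hom
  haveI : LocallyOfFinitePresentation v.left :=
    MorphismProperty.of_isPullback hsq ‹LocallyOfFinitePresentation u.left›
  haveI : Flat B.hom := by rw [← Over.w v]; infer_instance
  haveI : LocallyOfFinitePresentation B.hom := by rw [← Over.w v]; infer_instance
  have hq : QuasiCompact B.hom := by rw [← Over.w v]; infer_instance
  have hfib : ∀ s : S,
      Red.IsBorelOver (AlgebraicClosure (S.residueField s)) ((Over.pullback (Red.geomPt s)).map b) := by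
    intro s
    let g := Red.geomPt s
    haveI : Smooth (Red.bc g G).hom := inferInstanceAs (Smooth (pullback.snd G.hom g))
    haveI : QuasiCompact (Red.bc g G).hom := inferInstanceAs (QuasiCompact (pullback.snd G.hom g))
    haveI : Smooth (Red.bc g G').hom := inferInstanceAs (Smooth (pullback.snd G'.hom g))
    haveI : QuasiCompact (Red.bc g G').hom := inferInstanceAs (QuasiCompact (pullback.snd G'.hom g))
    haveI := CentMT21.connectedSpace_geomFibre G hconn s
    haveI := MTRigid29.isMonHom_map u g
    haveI := MTRigid29.isMonHom_map b g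
    haveI := MTRigid29.isMonHom_map v g
    haveI : Surjective ((Over.pullback g).map u).left := CentMT21.surjective_map_left u g
    haveI : Flat ((Over.pullback g).map u).left :=
      MorphismProperty.of_isPullback (MTRigid29.isPullback_map_left g u) ‹Flat u.left›
    exact borel_of_preimage ((Over.pullback g).map u) (CentMT21.centralKer_bc hker g) _ (hB' s)
      ((Over.pullback g).map b) ((Over.pullback g).map v) (hpb.map (Over.pullback g))
  exact ⟨MorphismProperty.of_isPullback (P := MorphismProperty.monomorphisms _) hpb.flip hb',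
    CentMT21.smooth_of_flat_of_geom B fun s => (hfib s).2.2.1, hq, hfib⟩

/-- Every Borel subgroup is a preimage. -/
theorem exists_borel_image (b : B ⟶ G) [IsMonHom b] [Mono b] [Smooth B.hom]
    (hB : ∀ s : S, Red.IsBorelOver (AlgebraicClosure (S.residueField s)) ((Over.pullback (Red.geomPt s)).map b)) :
    ∃ (B' : Over S) (_ : GrpObj B') (b' : B' ⟶ G') (v : B ⟶ B'), (IsMonHom b' ∧ Mono b' ∧ Smooth B'.hom ∧
      QuasiCompact B'.hom ∧
      ∀ s : S, Red.IsBorelOver (AlgebraicClosure (S.residueField s)) ((Over.pullback (Red.geomPt s)).map b')) ∧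
      IsMonHom v ∧ IsPullback b v u b' := by
  have hC : ∀ s : S, ∃ (C' : Over (Spec (CommRingCat.of (AlgebraicClosure (S.residueField s))))) (_ : GrpObj C')
      (c' : C' ⟶ Red.geomFibre s B), SGA3x.IsCartanOver _ (c' ≫ (Over.pullback (Red.geomPt s)).map b) := fun s => by
    let g := Red.geomPt s
    haveI : Smooth (Red.bc g G).hom := inferInstanceAs (Smooth (pullback.snd G.hom g))
    haveI : QuasiCompact (Red.bc g G).hom := inferInstanceAs (QuasiCompact (pullback.snd G.hom g))
    haveI := CentMT21.connectedSpace_geomFibre G hconn s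
    exact exists_cartan_le (hB s)
  obtain ⟨Q, _, q, m, hqm, hmm, hmono, hqs, hqf, -, hQs, hQc, hpb⟩ :=
    exists_image_pullback u hker b (fun s => (hB s).2.2.2.1) hC
  haveI := hqm
  haveI := hmm
  haveI := hmono
  haveI := hqs
  haveI := hQs
  haveI := hQc
  refine ⟨Q, inferInstance, m, q, ⟨hmm, hmono, hQs, hQc, fun s => ?_⟩, hqm, hpb⟩
  let g := Red.geomPt s
  haveI : Smooth (Red.bc g G).hom := inferInstanceAs (Smooth (pullback.snd G.hom g))
  haveI : QuasiCompact (Red.bc g G).hom := inferInstanceAs (QuasiCompact (pullback.snd G.hom g))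
  haveI : Smooth (Red.bc g G').hom := inferInstanceAs (Smooth (pullback.snd G'.hom g))
  haveI : QuasiCompact (Red.bc g G').hom := inferInstanceAs (QuasiCompact (pullback.snd G'.hom g))
  haveI : Smooth (Red.bc g Q).hom := inferInstanceAs (Smooth (pullback.snd Q.hom g))
  haveI : QuasiCompact (Red.bc g Q).hom := inferInstanceAs (QuasiCompact (pullback.snd Q.hom g))
  haveI := CentMT21.connectedSpace_geomFibre G hconn s
  haveI := MTRigid29.isMonHom_map u g
  haveI := MTRigid29.isMonHom_map m g
  haveI := MTRigid29.isMonHom_map q g
  haveI : Mono ((Over.pullback g).map m) := Functor.map_mono _ _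
  haveI : Surjective ((Over.pullback g).map u).left := CentMT21.surjective_map_left u g
  haveI : Surjective ((Over.pullback g).map q).left := CentMT21.surjective_map_left q g
  haveI : Flat ((Over.pullback g).map u).left :=
    MorphismProperty.of_isPullback (MTRigid29.isPullback_map_left g u) ‹Flat u.left›
  exact borel_of_image ((Over.pullback g).map u) (CentMT21.centralKer_bc hker g) _ (hB s)
    ((Over.pullback g).map m) ((Over.pullback g).map q) (hpb.map (Over.pullback g))

end Groth.Agent.BorelPre21
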